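import Groth.Agent.Dix.K600.N3Stmt
import Groth.Prelude.Def_Dix
import Groth.Prelude.Def_EtLim

/-!
# S5709: the assembly interface
-/

set_option autoImplicit false
universe u
open CategoryTheory CategoryTheory.Limits AlgebraicGeometry

namespace K600.Ass

/-- One step: `k' = k(α)`, `α ^ p ∈ k`. -/
def StepInj : Prop :=
  ∀ (p : ℕ) [Fact p.Prime] (k : Type u) [Field k] [IsSepClosed k] [CharP k p]
    (k' : Type u) [Field k'] [Algebra k k'] (α : k') (a : k), algebraMap k k' a = α ^ p →
    Algebra.adjoin k {α} = ⊤ → (α ∉ Set.range (algebraMap k k')) →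
    ∀ (X : Scheme.{u}) (f : X ⟶ Spec (CommRingCat.of k)) [IsProper f], topologicalKrullDim X ≤ 1 →
    ∀ [PreservesFiniteLimits (EtCoh.pull (pullback.fst f (Spec.map (CommRingCat.ofHom (algebraMap k k')))))],
      Function.Injective (EtLim.HGmPull (pullback.fst f (Spec.map (CommRingCat.ofHom (algebraMap k k')))) 2)

end K600.Ass
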