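import Groth.Prelude.Def_PicRel2
import Groth.Agent.EtCd.K549.PicGlue
import Mathlib.RingTheory.Derivation.Basic

/-!
# Atiyah classes of invertible modules on `X_E` along a derivation of `E`: definitions

`X` a scheme over a field `k`, `E` a `k`-algebra with a `k`-derivation `D`.  For an affine open `U` of `X` the ring
`Γ(X_E, U_E)` is `Γ(X, U) ⊗ E` and carries the derivation `del D U = 1 ⊗ D`.  For two opens `U₁`, `U₂` and a module
`L` on `X_E`, `IsDlog D U₁ U₂ L w` says that there are `D`-connections `N₁`, `N₂` on `L` over `U₁`, `U₂` with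
`N₁ - N₂ = w` on `U₁ ⊓ U₂`.
-/

set_option autoImplicit false
universe u

open CategoryTheory CategoryTheory.Limits AlgebraicGeometry

namespace K600.AtDef

open Groth.Agent.Fdesc.LocGen hiding tmul smul_tmul tmul_smul
open K549.PicGlue (pres pl)

section base

variable (k : Type u) [CommRing k]

/-- `Spec E` as a scheme over `Spec k`. -/
noncomputable abbrev sp (E : Type u) [CommRing E] [Algebra k E] : Over (Spec (CommRingCat.of k)) :=
  Over.mk (Spec.map (CommRingCat.ofHom (algebraMap k E)))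

variable {k} in
/-- `Spec` of a `k`-algebra homomorphism. -/
noncomputable abbrev spMap {E E' : Type u} [CommRing E] [Algebra k E] [CommRing E'] [Algebra k E']
    (h : E →ₐ[k] E') : sp k E' ⟶ sp k E :=
  Over.homMk (Spec.map (CommRingCat.ofHom h.toRingHom)) (by
    change Spec.map _ ≫ Spec.map _ = Spec.map _
    rw [← Spec.map_comp, ← CommRingCat.ofHom_comp]
    congr 2
    exact h.comp_algebraMap)

end base

variable {k : Type u} [CommRing k] {X : Scheme.{u}} (f : X ⟶ Spec (CommRingCat.of k))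
  (E : Type u) [CommRing E] [Algebra k E]

/-- `X_E = X ×_k Spec E`. -/
noncomputable abbrev XE : Scheme.{u} := PicF.XT f (sp k E)

/-- The projection `X_E ⟶ X`. -/
noncomputable abbrev pr : XE f E ⟶ X := pullback.fst f (sp k E).hom

/-- The inverse image of an open of `X`. -/
noncomputable abbrev pU (U : X.Opens) : (XE f E).Opens := pr f E ⁻¹ᵁ U

/-- The ring of functions on the inverse image of `U`. -/
noncomputable abbrev BU (U : X.Opens) : Type u := Γ(XE f E, pU f E U)

/-- Functions on `U`, as functions on its inverse image. -/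
noncomputable def aX (U : X.Opens) : Γ(X, U) →+* BU f E U := ((pr f E).app U).hom

/-- Constants. -/
noncomputable def aE (U : X.Opens) : E →+* BU f E U :=
  ((XE f E).presheaf.map (homOfLE (le_top : pU f E U ≤ ⊤)).op).hom.comp
    (((pullback.snd f (sp k E).hom).appTop.hom).comp (Scheme.ΓSpecIso (CommRingCat.of E)).inv.hom)

lemma pU_mono {U V : X.Opens} (h : V ≤ U) : pU f E V ≤ pU f E U := (pr f E).preimage_mono h

variable {E}

/-- `δ` extends `D` and kills the functions on `X`. -/
def IsExt (D : Derivation k E E) (U : X.Opens) (δ : Derivation ℤ (BU f E U) (BU f E U)) : Prop :=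
  (∀ a, δ (aX f E U a) = 0) ∧ ∀ e, δ (aE f E U e) = aE f E U (D e)

open Classical in
/-- The derivation `1 ⊗ D` of `Γ(X_E, U_E)`. -/
noncomputable def del (D : Derivation k E E) (U : X.Opens) : Derivation ℤ (BU f E U) (BU f E U) :=
  if h : ∃ δ, IsExt f D U δ then h.choose else 0

/-- A connection along the derivation `δ`. -/
structure IsConn {B L : Type*} [CommRing B] [AddCommGroup L] [Module B L] (δ : Derivation ℤ B B)
    (N : L →+ L) : Prop where
  leib : ∀ (b : B) (l : L), N (b • l) = δ b • l + b • N l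

/-- `w` is the Atiyah cocycle of `L` for the cover `U₁`, `U₂` and some connections on `L` over `U₁`, `U₂`. -/
def IsDlog (D : Derivation k E E) (U₁ U₂ : X.Opens) (L : (XE f E).Modules) (w : BU f E (U₁ ⊓ U₂)) : Prop :=
  ∃ (N₁ : Γ(L, pU f E U₁) →+ Γ(L, pU f E U₁)) (N₂ : Γ(L, pU f E U₂) →+ Γ(L, pU f E U₂))
    (N : Γ(L, pU f E (U₁ ⊓ U₂)) →+ Γ(L, pU f E (U₁ ⊓ U₂))),
    IsConn (del f D U₁) N₁ ∧ IsConn (del f D U₂) N₂ ∧ IsConn (del f D (U₁ ⊓ U₂)) N ∧
    (∀ s, N (res L (pU_mono f E inf_le_right) s) = res L (pU_mono f E inf_le_right) (N₂ s)) ∧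
    ∀ s, N (res L (pU_mono f E inf_le_left) s) + w • res L (pU_mono f E inf_le_left) s =
      res L (pU_mono f E inf_le_left) (N₁ s)

/-- Coboundaries. -/
def Bd (U₁ U₂ : X.Opens) (w : BU f E (U₁ ⊓ U₂)) : Prop :=
  ∃ (c₁ : BU f E U₁) (c₂ : BU f E U₂),
    w = ores (pU_mono f E inf_le_left) c₁ + ores (pU_mono f E inf_le_right) c₂

section maps

variable {E' : Type u} [CommRing E'] [Algebra k E']

/-- The map `X_{E'} ⟶ X_E`. -/
noncomputable abbrev gE (h : E →ₐ[k] E') : XE f E' ⟶ XE f E := PicF.XTmap f (spMap h)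

theorem gE_pr (h : E →ₐ[k] E') : gE f h ≫ pr f E = pr f E' := by
  unfold gE pr PicF.XTmap
  rw [pullback.lift_fst, Category.comp_id]

theorem gE_snd (h : E →ₐ[k] E') : gE f h ≫ pullback.snd f (sp k E).hom =
    pullback.snd f (sp k E').hom ≫ Spec.map (CommRingCat.ofHom h.toRingHom) := by
  unfold gE PicF.XTmap
  rw [pullback.lift_snd]
  rfl

theorem pU_le (h : E →ₐ[k] E') (U : X.Opens) : pU f E' U ≤ gE f h ⁻¹ᵁ pU f E U := by
  rw [← Scheme.Hom.comp_preimage, gE_pr]

/-- Functions: `B_U(E) → B_U(E')`. -/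
noncomputable def bm (h : E →ₐ[k] E') (U : X.Opens) : BU f E U →+* BU f E' U :=
  pl (gE f h) (pU_le f h U)

end maps

/-- The operator `w ↦ w ^ p + δ ^ (p-1) w - w`. -/
def phi {B : Type*} [CommRing B] (p : ℕ) (δ : Derivation ℤ B B) (w : B) : B := w ^ p + δ^[p - 1] w - w

end K600.AtDef
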