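import Groth.Agent.Dix.K600.AtDef
import Mathlib.FieldTheory.IsSepClosed
import Mathlib.AlgebraicGeometry.Morphisms.Proper
import Mathlib.RingTheory.Adjoin.Basic

/-!
# The statement N3: classes killed by `phi` are Atiyah classes of invertible modules (in terms of cocycles)
-/

set_option autoImplicit false
universe u

open CategoryTheory CategoryTheory.Limits AlgebraicGeometry

namespace K600.N3Stmt

open K600.AtDef
open Groth.Agent.Fdesc.LocGen hiding tmul smul_tmul tmul_smul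

variable {k : Type u} [Field k] {X : Scheme.{u}} (f : X ⟶ Spec (CommRingCat.of k))
  {k' : Type u} [Field k'] [Algebra k k']

/-- `side U₁ U₂ false = U₁`, `side U₁ U₂ true = U₂`. -/
def side (U₁ U₂ : X.Opens) : Bool → X.Opens
  | false => U₁
  | true => U₂

/-- The two-element cocycle `v` (`v₁₂ = v`, `v₂₁ = -v`, `v₁₁ = v₂₂ = 0`), restricted to `W ⊓ W'`. -/
noncomputable def vv {U₁ U₂ : X.Opens} (v : BU f k' (U₁ ⊓ U₂)) (W W' : X.Opens) :
    ∀ (s s' : Bool), W ≤ side U₁ U₂ s → W' ≤ side U₁ U₂ s' → BU f k' (W ⊓ W')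
  | false, false => fun _ _ => 0
  | true, true => fun _ _ => 0
  | false, true => fun h h' => ores (pU_mono f k' (inf_le_inf h h')) v
  | true, false => fun h h' => -ores (pU_mono f k' (le_inf (inf_le_right.trans h') (inf_le_left.trans h))) v

/-- The data produced by N3. -/
structure Out (D : Derivation k k' k') {U₁ U₂ : X.Opens} (v : BU f k' (U₁ ⊓ U₂)) where
  /-- the index type -/
  ι : Type u
  /-- the cover -/
  W : ι → X.Opens
  /-- the side -/
  s : ι → Bool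
  hW : ∀ i, IsAffineOpen (W i)
  hW2 : ∀ i j, IsAffineOpen (W i ⊓ W j)
  hcov : ⨆ i, W i = ⊤
  hs : ∀ i, W i ≤ side U₁ U₂ (s i)
  /-- the units -/
  t : ∀ i j, BU f k' (W i ⊓ W j)
  ht : ∀ i j, IsUnit (t i j)
  hcoc : ∀ i j l, ores (pU_mono f k' (inf_le_left : W i ⊓ W j ⊓ W l ≤ W i ⊓ W j)) (t i j) *
      ores (pU_mono f k' (le_inf (inf_le_left.trans inf_le_right) inf_le_right : W i ⊓ W j ⊓ W l ≤ W j ⊓ W l)) (t j l) =
      ores (pU_mono f k' (le_inf (inf_le_left.trans inf_le_left) inf_le_right : W i ⊓ W j ⊓ W l ≤ W i ⊓ W l)) (t i l)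
  /-- the functions -/
  c : ∀ i, BU f k' (W i)
  hc : ∀ i j, del f D (W i ⊓ W j) (t i j) = t i j * (vv f v (W i) (W j) (s i) (s j) (hs i) (hs j) +
      ores (pU_mono f k' inf_le_left) (c i) - ores (pU_mono f k' inf_le_right) (c j))

/-- N3. -/
def N3 : Prop :=
  ∀ (p : ℕ) [Fact p.Prime] (k : Type u) [Field k] [CharP k p] [IsSepClosed k]
    (k' : Type u) [Field k'] [Algebra k k'] (α : k') (a : k), algebraMap k k' a = α ^ p →
    Algebra.adjoin k {α} = ⊤ → α ≠ 0 →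
    ∀ (D : Derivation k k' k'), D α = α →
    ∀ (X : Scheme.{u}) (f : X ⟶ Spec (CommRingCat.of k)) [IsProper f], topologicalKrullDim X ≤ 1 →
    ∀ (U₁ U₂ : X.Opens), IsAffineOpen U₁ → IsAffineOpen U₂ → IsAffineOpen (U₁ ⊓ U₂) → U₁ ⊔ U₂ = ⊤ →
    ∀ (v : BU f k' (U₁ ⊓ U₂)), Bd f U₁ U₂ (phi p (del f D (U₁ ⊓ U₂)) v) → Nonempty (Out f D v)

end K600.N3Stmt
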