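import Groth.Agent.Dix.K600.AtDef
import Mathlib.AlgebraicGeometry.Morphisms.Flat
import Mathlib.RingTheory.TensorProduct.Maps
import Mathlib.LinearAlgebra.TensorProduct.RightExactness
import Mathlib.LinearAlgebra.TensorProduct.Tower

/-!
# The rings `Γ(X_E, U_E) = Γ(X, U) ⊗ E` and their derivations
-/

set_option autoImplicit false
universe u

open CategoryTheory CategoryTheory.Limits AlgebraicGeometry TensorProduct

namespace K600.Rings

open K600.AtDef
open Groth.Agent.Fdesc.LocGen hiding tmul smul_tmul tmul_smul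
open K549.PicGlue (pres pl)

section alg

variable {k A E B : Type u} [CommRing k] [CommRing A] [CommRing E] [CommRing B] [Algebra k A] [Algebra k E]

/-- A pushout of rings is a tensor product. -/
theorem exists_equiv {a : A →+* B} {e : E →+* B}
    (h : IsPushout (CommRingCat.ofHom (algebraMap k A)) (CommRingCat.ofHom (algebraMap k E))
      (CommRingCat.ofHom a) (CommRingCat.ofHom e)) :
    ∃ θ : A ⊗[k] E ≃+* B, ∀ x y, θ (x ⊗ₜ y) = a x * e y := by
  let i := (CommRingCat.isPushout_tensorProduct k A E).isoIsPushout _ _ h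
  have h1 := (CommRingCat.isPushout_tensorProduct k A E).inl_isoIsPushout_hom _ _ h
  have h2 := (CommRingCat.isPushout_tensorProduct k A E).inr_isoIsPushout_hom _ _ h
  refine ⟨i.commRingCatIsoToRingEquiv, fun x y => ?_⟩
  have h3 : (x ⊗ₜ[k] y : A ⊗[k] E) = (x ⊗ₜ 1) * (1 ⊗ₜ y) := by
    rw [Algebra.TensorProduct.tmul_mul_tmul, mul_one, one_mul]
  rw [h3, map_mul]
  congr 1
  · exact congr($(h1).hom x)
  · exact congr($(h2).hom y)

/-- The derivation `1 ⊗ D`. -/
theorem exists_der (D : Derivation k E E) (θ : A ⊗[k] E ≃+* B) :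
    ∃ δ : Derivation ℤ B B, ∀ x y, δ (θ (x ⊗ₜ y)) = θ (x ⊗ₜ D y) := by
  let D1 : A ⊗[k] E →+ A ⊗[k] E := (LinearMap.lTensor A D.toLinearMap).toAddMonoidHom
  have hD1 : ∀ x y, D1 (x ⊗ₜ y) = x ⊗ₜ D y := fun x y => rfl
  have hl : ∀ z w, D1 (z * w) = z * D1 w + w * D1 z := by
    intro z w
    induction z using TensorProduct.induction_on with
    | zero => simp
    | add x y hx hy => rw [add_mul, map_add, hx, hy, map_add]; ring
    | tmul r x =>
      induction w using TensorProduct.induction_on with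
      | zero => simp
      | add y z hy hz => rw [mul_add, map_add, hy, hz, map_add]; ring
      | tmul s y =>
        rw [Algebra.TensorProduct.tmul_mul_tmul, hD1, hD1, hD1, D.leibniz, TensorProduct.tmul_add,
          Algebra.TensorProduct.tmul_mul_tmul, Algebra.TensorProduct.tmul_mul_tmul, smul_eq_mul, smul_eq_mul,
          mul_comm s r]
  let D2 : B →+ B := (θ : A ⊗[k] E →+ B).comp (D1.comp (θ.symm : B →+ A ⊗[k] E))
  have hD2 : ∀ b, D2 b = θ (D1 (θ.symm b)) := fun b => rfl
  refine ⟨Derivation.mk' D2.toIntLinearMap ?_, ?_⟩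
  · intro b c
    change D2 (b * c) = b * D2 c + c * D2 b
    rw [hD2, hD2, hD2, map_mul, hl, map_add, map_mul, map_mul, θ.apply_symm_apply, θ.apply_symm_apply]
  · intro x y
    change D2 _ = _
    rw [hD2, θ.symm_apply_apply, hD1]

end alg

section geom

variable {k : Type u} [Field k] {X : Scheme.{u}} (f : X ⟶ Spec (CommRingCat.of k))
variable {E E' E'' : Type u} [CommRing E] [Algebra k E] [CommRing E'] [Algebra k E'] [CommRing E''] [Algebra k E'']

/-- Constants on `X`. -/
noncomputable def ak (U : X.Opens) : k →+* Γ(X, U) :=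
  (f.appLE ⊤ U le_top).hom.comp (Scheme.ΓSpecIso (CommRingCat.of k)).inv.hom

variable (E) in
theorem isPushout_bu {U : X.Opens} (hU : IsAffineOpen U) :
    IsPushout (CommRingCat.ofHom (ak f U)) (CommRingCat.ofHom (algebraMap k E))
      (CommRingCat.ofHom (aX f E U)) (CommRingCat.ofHom (aE f E U)) := by
  have H : IsPullback (pr f E) (pullback.snd f (sp k E).hom) f (sp k E).hom := IsPullback.of_hasPullback _ _
  have h1 := isIso_pushoutSection_of_isAffineOpen H (US := ⊤) (UT := ⊤) (UX := U) (UY := pU f E U)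
    le_top le_top (by exact (inf_top_eq _).symm) (isAffineOpen_top _)
    (isAffineOpen_top (Spec (CommRingCat.of E))) hU
  rw [isIso_pushoutSection_iff] at h1
  refine h1.of_iso (Scheme.ΓSpecIso (CommRingCat.of k)) (Iso.refl _) (Scheme.ΓSpecIso (CommRingCat.of E)) (Iso.refl _)
    ?_ ?_ ?_ ?_
  · ext s
    change (f.appLE ⊤ U le_top).hom s = (f.appLE ⊤ U le_top).hom ((Scheme.ΓSpecIso (CommRingCat.of k)).inv.hom
      ((Scheme.ΓSpecIso (CommRingCat.of k)).hom.hom s))
    congr 1
    exact (congr($((Scheme.ΓSpecIso (CommRingCat.of k)).hom_inv_id) s)).symm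
  · have := Scheme.ΓSpecIso_naturality (CommRingCat.ofHom (algebraMap k E))
    rw [← this]
    congr 1
  · rw [Iso.refl_hom, Iso.refl_hom, Category.comp_id, Category.id_comp]
    rw [Scheme.Hom.appLE]
    ext s
    change ((pr f E).app U ≫ _).hom s = ((pr f E).app U).hom s
    simp
  · ext s
    change ((pullback.snd f (sp k E).hom).appLE ⊤ (pU f E U) _).hom s =
      ((XE f E).presheaf.map (homOfLE (le_top : pU f E U ≤ ⊤)).op).hom
        (((pullback.snd f (sp k E).hom).appTop.hom) ((Scheme.ΓSpecIso (CommRingCat.of E)).inv.hom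
          ((Scheme.ΓSpecIso (CommRingCat.of E)).hom.hom s)))
    rw [show (Scheme.ΓSpecIso (CommRingCat.of E)).inv.hom ((Scheme.ΓSpecIso (CommRingCat.of E)).hom.hom s) = s from
      congr($((Scheme.ΓSpecIso (CommRingCat.of E)).hom_inv_id) s)]
    rfl

/-- The `k`-algebra structure of `Γ(X, U)`. -/
@[reducible] noncomputable def algX (U : X.Opens) : Algebra k Γ(X, U) := (ak f U).toAlgebra

variable (E) in
theorem exists_theta {U : X.Opens} (hU : IsAffineOpen U) :
    letI := algX f U
    ∃ θ : Γ(X, U) ⊗[k] E ≃+* BU f E U, ∀ x y, θ (x ⊗ₜ y) = aX f E U x * aE f E U y := by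
  letI := algX f U
  exact exists_equiv (isPushout_bu f E hU)

theorem bu_induction {U : X.Opens} (hU : IsAffineOpen U) {motive : BU f E U → Prop}
    (hadd : ∀ x y, motive x → motive y → motive (x + y))
    (hmul : ∀ a e, motive (aX f E U a * aE f E U e)) (b : BU f E U) : motive b := by
  let := algX f U
  obtain ⟨θ, hθ⟩ := exists_theta f E hU
  obtain ⟨z, rfl⟩ := θ.surjective b
  induction z using TensorProduct.induction_on with
  | zero =>
    have := hmul 0 0
    rwa [map_zero, zero_mul, ← map_zero θ] at this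
  | add x y hx hy => rw [map_add]; exact hadd _ _ hx hy
  | tmul a e => rw [hθ]; exact hmul a e

theorem exists_isExt (D : Derivation k E E) {U : X.Opens} (hU : IsAffineOpen U) : ∃ δ, IsExt f D U δ := by
  let := algX f U
  obtain ⟨θ, hθ⟩ := exists_theta f E hU
  obtain ⟨δ, hδ⟩ := exists_der D θ
  refine ⟨δ, fun a => ?_, fun e => ?_⟩
  · have := hδ a 1
    rw [hθ, map_one, mul_one, D.map_one_eq_zero, TensorProduct.tmul_zero, map_zero] at this
    exact this
  · have := hδ 1 e
    rwa [hθ, hθ, map_one, one_mul, one_mul] at this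

theorem isExt_del (D : Derivation k E E) {U : X.Opens} (hU : IsAffineOpen U) : IsExt f D U (del f D U) := by
  have h := exists_isExt f D hU
  unfold del
  rw [dif_pos h]
  exact h.choose_spec

theorem del_aX (D : Derivation k E E) {U : X.Opens} (hU : IsAffineOpen U) (a : Γ(X, U)) :
    del f D U (aX f E U a) = 0 := (isExt_del f D hU).1 a

theorem del_aE (D : Derivation k E E) {U : X.Opens} (hU : IsAffineOpen U) (e : E) :
    del f D U (aE f E U e) = aE f E U (D e) := (isExt_del f D hU).2 e

theorem ores_aX {U V : X.Opens} (h : V ≤ U) (a : Γ(X, U)) :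
    ores (pU_mono f E h) (aX f E U a) = aX f E V (ores h a) := by
  exact (congr($((pr f E).naturality (homOfLE h).op).hom a)).symm

theorem ores_aE {U V : X.Opens} (h : V ≤ U) (e : E) : ores (pU_mono f E h) (aE f E U e) = aE f E V e := by
  change ((XE f E).presheaf.map (homOfLE (pU_mono f E h)).op).hom
    (((XE f E).presheaf.map (homOfLE (le_top : pU f E U ≤ ⊤)).op).hom _) = _
  rw [← CommRingCat.comp_apply, ← Functor.map_comp]
  rfl

theorem bm_aX (h : E →ₐ[k] E') (U : X.Opens) (a : Γ(X, U)) : bm f h U (aX f E U a) = aX f E' U a := by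
  change ((gE f h).appLE (pU f E U) (pU f E' U) (pU_le f h U)).hom (((pr f E).app U).hom a) = ((pr f E').app U).hom a
  rw [← CommRingCat.comp_apply, Scheme.Hom.app_eq_appLE, Scheme.Hom.appLE_comp_appLE, Scheme.Hom.app_eq_appLE]
  congr 2
  simp only [gE_pr]

theorem bm_aE (h : E →ₐ[k] E') (U : X.Opens) (e : E) : bm f h U (aE f E U e) = aE f E' U (h e) := by
  have h1 : ∀ x, (pullback.snd f (sp k E').hom).appTop.hom
      ((Spec.map (CommRingCat.ofHom h.toRingHom)).appTop.hom x) =
      (gE f h).appTop.hom ((pullback.snd f (sp k E).hom).appTop.hom x) := by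
    intro x
    have := congr($(congrArg Scheme.Hom.appTop (gE_snd f h)).hom x)
    rw [Scheme.Hom.comp_appTop, Scheme.Hom.comp_appTop] at this
    exact this.symm
  have h2 : (Scheme.ΓSpecIso (CommRingCat.of E')).inv.hom (h e) =
      (Spec.map (CommRingCat.ofHom h.toRingHom)).appTop.hom ((Scheme.ΓSpecIso (CommRingCat.of E)).inv.hom e) :=
    congr($(Scheme.ΓSpecIso_inv_naturality (CommRingCat.ofHom h.toRingHom)).hom e)
  have h3 : aE f E' U (h e) = ((XE f E').presheaf.map (homOfLE (le_top : pU f E' U ≤ ⊤)).op).hom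
      ((pullback.snd f (sp k E').hom).appTop.hom ((Scheme.ΓSpecIso (CommRingCat.of E')).inv.hom (h e))) := rfl
  rw [h3, h2, h1]
  change ((gE f h).appLE (pU f E U) (pU f E' U) (pU_le f h U)).hom
    (((XE f E).presheaf.map (homOfLE (le_top : pU f E U ≤ ⊤)).op).hom _) = _
  rw [← CommRingCat.comp_apply, Scheme.Hom.map_appLE]
  rfl

theorem bm_ores (h : E →ₐ[k] E') {U V : X.Opens} (hVU : V ≤ U) (b : BU f E U) :
    bm f h V (ores (pU_mono f E hVU) b) = ores (pU_mono f E' hVU) (bm f h U b) := by
  change ((gE f h).appLE (pU f E V) (pU f E' V) (pU_le f h V)).hom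
    (((XE f E).presheaf.map (homOfLE (pU_mono f E hVU)).op).hom b) =
    ((XE f E').presheaf.map (homOfLE (pU_mono f E' hVU)).op).hom
    (((gE f h).appLE (pU f E U) (pU f E' U) (pU_le f h U)).hom b)
  rw [← CommRingCat.comp_apply, Scheme.Hom.map_appLE, ← CommRingCat.comp_apply, Scheme.Hom.appLE_map]

theorem bm_bm (h : E →ₐ[k] E') (h' : E' →ₐ[k] E'') {U : X.Opens} (hU : IsAffineOpen U) (b : BU f E U) :
    bm f h' U (bm f h U b) = bm f (h'.comp h) U b := by
  refine bu_induction f hU (motive := fun b => bm f h' U (bm f h U b) = bm f (h'.comp h) U b) (fun x y hx hy => ?_) (fun a e => ?_) b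
  · simp only [map_add, hx, hy]
  · simp only [map_mul, bm_aX, bm_aE, AlgHom.comp_apply]

theorem bm_id {U : X.Opens} (hU : IsAffineOpen U) (b : BU f E U) : bm f (AlgHom.id k E) U b = b := by
  refine bu_induction f hU (motive := fun b => bm f (AlgHom.id k E) U b = b) (fun x y hx hy => ?_) (fun a e => ?_) b
  · simp only [map_add, hx, hy]
  · simp only [map_mul, bm_aX, bm_aE, AlgHom.id_apply]

theorem del_ores (D : Derivation k E E) {U V : X.Opens} (hU : IsAffineOpen U) (hV : IsAffineOpen V) (h : V ≤ U)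
    (b : BU f E U) : del f D V (ores (pU_mono f E h) b) = ores (pU_mono f E h) (del f D U b) := by
  refine bu_induction f hU (motive := fun b => del f D V (ores (pU_mono f E h) b) =
    ores (pU_mono f E h) (del f D U b)) (fun x y hx hy => ?_) (fun a e => ?_) b
  · simp only [map_add, hx, hy]
  · rw [map_mul, ores_aX f h, ores_aE f h, Derivation.leibniz, Derivation.leibniz, del_aX f D hU, del_aX f D hV,
      del_aE f D hU, del_aE f D hV, smul_zero, smul_zero, add_zero, add_zero, smul_eq_mul, smul_eq_mul, map_mul,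
      ores_aX f h, ores_aE f h]

theorem del_bm (D : Derivation k E E) (D' : Derivation k E' E') (h : E →ₐ[k] E') (hD : ∀ e, D' (h e) = h (D e))
    {U : X.Opens} (hU : IsAffineOpen U) (b : BU f E U) : del f D' U (bm f h U b) = bm f h U (del f D U b) := by
  refine bu_induction f hU (motive := fun b => del f D' U (bm f h U b) = bm f h U (del f D U b)) (fun x y hx hy => ?_) (fun a e => ?_) b
  · simp only [map_add, hx, hy]
  · rw [map_mul, bm_aX, bm_aE, Derivation.leibniz, Derivation.leibniz, del_aX f D hU, del_aX f D' hU,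
      del_aE f D hU, del_aE f D' hU, smul_zero, smul_zero, add_zero, add_zero, smul_eq_mul, smul_eq_mul, map_mul,
      bm_aX, bm_aE, hD]

theorem iter_add {B : Type*} [CommRing B] (δ : Derivation ℤ B B) (n : ℕ) (x y : B) :
    δ^[n] (x + y) = δ^[n] x + δ^[n] y := by
  induction n generalizing x y with
  | zero => rfl
  | succ n ih => rw [Function.iterate_succ_apply, map_add, ih, Function.iterate_succ_apply,
      Function.iterate_succ_apply]

theorem del_iter_mul (D : Derivation k E E) {U : X.Opens} (hU : IsAffineOpen U) (n : ℕ) (a : Γ(X, U)) (e : E) :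
    (del f D U)^[n] (aX f E U a * aE f E U e) = aX f E U a * aE f E U (D^[n] e) := by
  induction n generalizing e with
  | zero => rfl
  | succ n ih =>
    rw [Function.iterate_succ_apply, Derivation.leibniz, del_aX f D hU, del_aE f D hU, smul_zero, add_zero,
      smul_eq_mul, ih, Function.iterate_succ_apply]

theorem del_iter (p : ℕ) (D : Derivation k E E) (hD : ∀ e, D^[p] e = D e)
    {U : X.Opens} (hU : IsAffineOpen U) (b : BU f E U) : (del f D U)^[p] b = del f D U b := by
  refine bu_induction f hU (motive := fun b => (del f D U)^[p] b = del f D U b) (fun x y hx hy => ?_) (fun a e => ?_) b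
  · rw [iter_add, hx, hy, map_add]
  · rw [del_iter_mul f D hU, hD, Derivation.leibniz, del_aX f D hU, del_aE f D hU, smul_zero, add_zero, smul_eq_mul]

theorem natCast_bu (p : ℕ) [CharP k p] (U : X.Opens) : (p : BU f E U) = 0 := by
  have h1 : ((p : ℕ) : E) = 0 := by
    rw [← map_natCast (algebraMap k E) p, CharP.cast_eq_zero, map_zero]
  rw [← map_natCast (aE f E U) p, h1, map_zero]

/-- `bm` as a map of tensor products. -/
theorem bm_theta (h : E →ₐ[k] E') {U : X.Opens} :
    letI := algX f U
    ∀ (θ : Γ(X, U) ⊗[k] E ≃+* BU f E U) (_ : ∀ x y, θ (x ⊗ₜ y) = aX f E U x * aE f E U y)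
      (θ' : Γ(X, U) ⊗[k] E' ≃+* BU f E' U) (_ : ∀ x y, θ' (x ⊗ₜ y) = aX f E' U x * aE f E' U y)
      (z : Γ(X, U) ⊗[k] E), bm f h U (θ z) = θ' (LinearMap.lTensor Γ(X, U) h.toLinearMap z) := by
  let := algX f U
  intro θ hθ θ' hθ' z
  induction z using TensorProduct.induction_on with
  | zero => simp only [map_zero]
  | add x y hx hy => simp only [map_add, hx, hy]
  | tmul a e => rw [hθ, map_mul, bm_aX, bm_aE, LinearMap.lTensor_tmul, hθ']; rfl

theorem bm_surjective (h : E →ₐ[k] E') (hs : Function.Surjective h) {U : X.Opens} (hU : IsAffineOpen U) :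
    Function.Surjective (bm f h U) := by
  let := algX f U
  obtain ⟨θ, hθ⟩ := exists_theta f E hU
  obtain ⟨θ', hθ'⟩ := exists_theta f E' hU
  intro b
  obtain ⟨z, hz⟩ := LinearMap.lTensor_surjective Γ(X, U) (g := h.toLinearMap) hs (θ'.symm b)
  refine ⟨θ z, ?_⟩
  rw [bm_theta f h θ hθ θ' hθ', hz, θ'.apply_symm_apply]

theorem bm_ker_mul (h : E →ₐ[k] E') (hs : Function.Surjective h) (hk : ∀ x y, h x = 0 → h y = 0 → x * y = 0)
    {U : X.Opens} (hU : IsAffineOpen U) (x y : BU f E U) (hx : bm f h U x = 0) (hy : bm f h U y = 0) :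
    x * y = 0 := by
  let := algX f U
  obtain ⟨θ, hθ⟩ := exists_theta f E hU
  obtain ⟨θ', hθ'⟩ := exists_theta f E' hU
  obtain ⟨z, rfl⟩ := θ.surjective x
  obtain ⟨w, rfl⟩ := θ.surjective y
  rw [bm_theta f h θ hθ θ' hθ', map_eq_zero_iff θ' θ'.injective] at hx hy
  have hex : Function.Exact (LinearMap.ker h.toLinearMap).subtype h.toLinearMap := by
    intro e
    rw [Submodule.coe_subtype, Subtype.range_coe]
    exact LinearMap.mem_ker.symm
  have h2 := lTensor_exact Γ(X, U) hex hs
  obtain ⟨z, rfl⟩ := (h2 z).1 hx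
  obtain ⟨w, rfl⟩ := (h2 w).1 hy
  rw [← map_mul, map_eq_zero_iff θ θ.injective]
  clear hx hy
  induction z using TensorProduct.induction_on with
  | zero => rw [map_zero, zero_mul]
  | add x y h1 h2 =>
    rw [map_add, add_mul, h1, h2, add_zero]
  | tmul a e =>
    induction w using TensorProduct.induction_on with
    | zero => rw [map_zero, mul_zero]
    | add x y h1 h2 => rw [map_add, mul_add, h1, h2, add_zero]
    | tmul b e' =>
      rw [LinearMap.lTensor_tmul, LinearMap.lTensor_tmul, Algebra.TensorProduct.tmul_mul_tmul]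
      rw [show (LinearMap.ker h.toLinearMap).subtype e * (LinearMap.ker h.toLinearMap).subtype e' = 0 from
        hk _ _ e.2 e'.2, TensorProduct.tmul_zero]

end geom

end K600.Rings
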